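import Groth.Agent.Lib.BddFin29.Ga
import Groth.Agent.Lib.GaPts.Basic
import Groth.Agent.Lib.PolyLuroth6.Main
import Groth.Agent.Lib.VarDim.Normal
import Groth.Agent.Lib.SmoothReg17.Basic
import Groth.Agent.Lib.OrbitTop19.Smooth
import Mathlib

/-!
# Quotients of the additive group are additive groups
-/

set_option autoImplicit false
set_option linter.style.haveILetI false
set_option backward.isDefEq.respectTransparency.types false
set_option maxSynthPendingDepth 3

universe u

open CategoryTheory CategoryTheory.Limits MonoidalCategory CartesianMonoidalCategory AlgebraicGeometry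
open scoped MonObj
open Groth.Agent

namespace Groth.Agent.GaQuot6

open BddFin29 (str sp spFn spPt)
open Polynomial

variable {K : Type u} [Field K]

/-- `g(X + Y) ∈ K[X][g(Y)]` forces `g` to be additive. -/
theorem additive_of_translation {g : K[X]} (hd : 0 < g.natDegree) (h0 : g.coeff 0 = 0) (Φ : K[X][X])
    (h : (g.map Polynomial.C).comp (Polynomial.C Polynomial.X + Polynomial.X) = Φ.comp (g.map Polynomial.C)) :
    (g.map Polynomial.C).comp (Polynomial.C Polynomial.X + Polynomial.X) = Polynomial.C g + g.map Polynomial.C := by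
  set G := g.map (Polynomial.C : K →+* K[X]) with hG
  have hGd : G.natDegree = g.natDegree := natDegree_map _
  have hΦd : Φ.natDegree = 1 := by
    have := congrArg natDegree h
    rw [natDegree_comp, natDegree_comp, natDegree_add_eq_right_of_natDegree_lt (by simp), natDegree_X, mul_one, hGd]
      at this
    exact (Nat.eq_of_mul_eq_mul_right hd (by rw [one_mul]; exact this)).symm
  obtain ⟨a, b, rfl⟩ : ∃ a b, Φ = Polynomial.C a * Polynomial.X + Polynomial.C b :=
    ⟨_, _, eq_X_add_C_of_natDegree_le_one hΦd.le⟩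
  rw [add_comp, mul_comp, C_comp, X_comp, C_comp] at h
  have hb : b = g := by
    have h' := congrArg (Polynomial.eval 0) h
    rw [eval_comp, eval_add, eval_C, eval_X, add_zero, eval_add, eval_mul, eval_C, eval_C] at h'
    have h00 : G.eval 0 = 0 := by rw [← coeff_zero_eq_eval_zero, hG, coeff_map, h0, map_zero]
    rw [h00, mul_zero, zero_add, hG, Polynomial.eval_map, eval₂_C_X] at h'
    exact h'.symm
  have ha : a = 1 := by
    have h' := congrArg (fun p => Polynomial.coeff p g.natDegree) h
    simp only [coeff_add, coeff_C_mul, coeff_C, hd.ne', if_false, add_zero] at h'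
    have hl : (G.comp (Polynomial.C Polynomial.X + Polynomial.X)).coeff g.natDegree = G.coeff g.natDegree := by
      have hlc : (G.comp (Polynomial.C Polynomial.X + Polynomial.X)).leadingCoeff = G.leadingCoeff := by
        rw [add_comm, leadingCoeff_comp (by simp), leadingCoeff_X_add_C, one_pow, mul_one]
      have hdg : (G.comp (Polynomial.C Polynomial.X + Polynomial.X)).natDegree = g.natDegree := by
        rw [natDegree_comp, natDegree_add_eq_right_of_natDegree_lt (by simp), natDegree_X, mul_one, hGd]
      rw [leadingCoeff, hdg, leadingCoeff, hGd] at hlc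
      exact hlc
    rw [hl] at h'
    refine mul_right_cancel₀ (b := G.coeff g.natDegree) ?_ (by rw [one_mul]; exact h'.symm)
    rw [hG, coeff_map, Ne, C_eq_zero]
    exact leadingCoeff_ne_zero.2 (ne_zero_of_natDegree_gt hd)
  rw [h, ha, hb, map_one, one_mul, add_comm]

/-- `g(s + t) = g(s) + g(t)` in every ring. -/
theorem eval₂_add_of_additive {g : K[X]}
    (h : (g.map Polynomial.C).comp (Polynomial.C Polynomial.X + Polynomial.X) = Polynomial.C g + g.map Polynomial.C)
    {R : Type u} [CommRing R] (φ : K →+* R) (s t : R) : g.eval₂ φ (s + t) = g.eval₂ φ s + g.eval₂ φ t := by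
  have := congrArg (Polynomial.eval₂ (Polynomial.eval₂RingHom φ s) t) h
  rw [eval₂_comp, eval₂_add, eval₂_C, eval₂_X, eval₂_add, eval₂_C, eval₂_map, eval₂_map,
    show (Polynomial.eval₂RingHom φ s).comp Polynomial.C = φ from RingHom.ext fun a => eval₂_C _ _,
    coe_eval₂RingHom, eval₂_X] at this
  exact this

local notation "base" => Spec (CommRingCat.of K)

/-- `Spec` of an algebra map. -/
noncomputable def spMap {B B' : Type u} [CommRing B] [Algebra K B] [CommRing B'] [Algebra K B'] (θ : B →ₐ[K] B') :
    sp K B' ⟶ sp K B :=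
  Over.homMk (Spec.map (CommRingCat.ofHom θ.toRingHom)) (by
    show Spec.map _ ≫ Spec.map _ = Spec.map _
    rw [← Spec.map_comp, ← CommRingCat.ofHom_comp]
    congr 2
    exact RingHom.ext θ.commutes)

theorem gaFn_spMap_comp {B B' : Type u} [CommRing B] [Algebra K B] [CommRing B'] [Algebra K B'] (θ : B →ₐ[K] B')
    (q : sp K B ⟶ Red.Ga base) (b : B) (hq : Red.gaFn q = (Scheme.ΓSpecIso (CommRingCat.of B)).inv b) :
    Red.gaFn (spMap θ ≫ q) = (Scheme.ΓSpecIso (CommRingCat.of B')).inv (θ b) := by
  rw [GaPts.gaFn_comp, hq]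
  exact (ConcreteCategory.congr_hom (Scheme.ΓSpecIso_inv_naturality (CommRingCat.ofHom θ.toRingHom)) b).symm

set_option maxHeartbeats 400000 in
theorem exists_iso (H : Over base) [GrpObj H] [IsAffine H.left] [Smooth H.hom]
    (f : Red.Ga base ⟶ H) [IsMonHom f] [IsFinite f.left] [Surjective f.left] :
    ∃ V : H ⟶ Red.Ga base, IsIso V ∧ IsMonHom V := by
  obtain ⟨f0, hf0, hf0X⟩ := BddFin29.exists_coord (K := K)
  haveI := hf0
  haveI : IsIso f0.left := inferInstanceAs (IsIso ((Over.forget _).map f0))
  let u : sp K K[X] ⟶ H := f0 ≫ f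
  haveI : IsFinite u.left := by rw [Over.comp_left]; infer_instance
  haveI : Surjective u.left := by rw [Over.comp_left]; infer_instance
  haveI hred : IsReduced H.left := OrbitTop19.isReduced_of_smooth H.hom
  letI : Algebra K Γ(H.left, ⊤) := (str H).hom.toAlgebra
  let eP := Scheme.ΓSpecIso (CommRingCat.of K[X])
  let φ : Γ(H.left, ⊤) →ₐ[K] K[X] :=
    { (u.left.appTop ≫ eP.hom).hom with
      commutes' := fun a => by
        show eP.hom (u.left.appTop ((str H).hom a)) = _
        rw [← CategoryTheory.comp_apply (str H), BddFin29.str_comp, BddFin29.str_sp, CategoryTheory.comp_apply]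
        exact Iso.inv_hom_id_apply _ _ }
  have hφinj : Function.Injective φ := by
    haveI : IsDominant u.left := inferInstance
    haveI : IsSchemeTheoreticallyDominant u.left := .of_isDominant _
    exact (ConcreteCategory.bijective_of_isIso eP.hom).1.comp (u.left.app_injective ⊤)
  have hint : φ.toRingHom.IsIntegral := by
    have h1 : u.left.appTop.hom.Finite := IsFinite.finite_app _ ⊤ (isAffineOpen_top _)
    exact RingHom.IsIntegral.trans _ _ h1.to_isIntegral
      (RingHom.isIntegral_of_surjective _ (ConcreteCategory.bijective_of_isIso eP.hom).2)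
  haveI : IsDomain Γ(H.left, ⊤) := hφinj.isDomain φ.toRingHom
  haveI : Nonempty H.left := ⟨u.left (Classical.arbitrary (Spec (CommRingCat.of K[X])))⟩
  haveI : IsIntegral H.left := isIntegral_of_isAffine_of_isDomain H.left
  haveI : IsIntegrallyClosed Γ(H.left, ⊤) := by
    haveI : Nonempty (⊤ : H.left.Opens) := ⟨⟨genericPoint H.left, trivial⟩⟩
    exact VarDim.isIntegrallyClosed_sections (fun x => SmoothReg17.isIntegrallyClosed_stalk H.hom x) ⊤
  obtain ⟨g, hgd, hg0, hrange⟩ := PolyLuroth6.exists_generator φ hφinj hint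
  obtain ⟨v, hv⟩ : ∃ v, φ v = g := by
    have : g ∈ φ.range := hrange ▸ Algebra.self_mem_adjoin_singleton K g
    exact this
  let V : H ⟶ Red.Ga base := GaPts.ptOfFn v
  haveI hV : IsIso V := by
    let w : H ⟶ sp K K[X] := V ≫ inv f0
    let ρ : K[X] →+* Γ(H.left, ⊤) := (spFn w).hom
    have hX : ρ Polynomial.X = v := by
      have := hf0X H w
      rw [Category.assoc, IsIso.inv_hom_id, Category.comp_id, GaPts.gaFn_ptOfFn] at this
      exact this.symm
    have hρ : ρ = (Polynomial.aeval v : K[X] →ₐ[K] Γ(H.left, ⊤)).toRingHom := by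
      refine Polynomial.ringHom_ext (fun a => ?_) (by simpa using hX)
      have := ConcreteCategory.congr_hom (BddFin29.spFn_alg w) a
      simpa [RingHom.algebraMap_toAlgebra] using this
    have hbij : Function.Bijective ρ := by
      rw [hρ]
      have hc : φ.comp (Polynomial.aeval v) = Polynomial.aeval g := by
        rw [← hv, Polynomial.aeval_algHom]
      refine ⟨fun p q hpq => ?_, fun b => ?_⟩
      · have h1 : Polynomial.aeval g p = Polynomial.aeval g q := by
          rw [← hc]; exact congrArg φ hpq
        rw [← sub_eq_zero, ← map_sub] at h1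
        have h2 : (p - q).comp g = 0 := h1
        rcases Polynomial.comp_eq_zero_iff.1 h2 with h | ⟨-, h⟩
        · exact sub_eq_zero.1 h
        · rw [h, natDegree_C] at hgd; exact absurd hgd (lt_irrefl 0)
      · have hb : φ b ∈ Algebra.adjoin K {g} := hrange ▸ ⟨b, rfl⟩
        rw [Algebra.adjoin_singleton_eq_range_aeval] at hb
        obtain ⟨p, hp⟩ := hb
        refine ⟨p, hφinj ?_⟩
        rw [← hp, ← hc]; rfl
    haveI : IsIso (spFn w) := (ConcreteCategory.isIso_iff_bijective _).2 hbij
    haveI : IsIso w.left.appTop := by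
      have : w.left.appTop = eP.hom ≫ spFn w := by simp [spFn, eP]
      rw [this]; infer_instance
    haveI : IsIso w.left := by
      have : w.left = H.left.isoSpec.hom ≫ Spec.map w.left.appTop ≫ (sp K K[X]).left.isoSpec.inv := by
        rw [← Category.assoc, Scheme.isoSpec_hom_naturality, Category.assoc, Iso.hom_inv_id, Category.comp_id]
      rw [this]; infer_instance
    haveI : IsIso ((Over.forget _).map w) := inferInstanceAs (IsIso w.left)
    haveI : IsIso w := isIso_of_reflects_iso w (Over.forget _)
    have hw : V = w ≫ f0 := by simp [w]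
    rw [hw]; infer_instance
  -- the composite with `f` is substitution of `g`
  have hfV : ∀ (T : Over base) (x : T ⟶ Red.Ga base),
      Red.gaFn (x ≫ f ≫ V) = g.eval₂ (str T).hom (Red.gaFn x) := by
    intro T x
    have h1 : Red.gaFn (u ≫ V) = g.eval₂ (str (sp K K[X])).hom (eP.inv Polynomial.X) := by
      rw [GaPts.gaFn_comp, GaPts.gaFn_ptOfFn, BddFin29.str_sp, CommRingCat.hom_comp, ← Polynomial.hom_eval₂]
      have : u.left.appTop v = eP.inv g := by
        rw [← hv]; exact (Iso.hom_inv_id_apply eP _).symm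
      rw [this]
      exact congrArg eP.inv.hom (show g = g.eval₂ (algebraMap K K[X]) Polynomial.X from eval₂_C_X.symm)
    have hx : x ≫ f ≫ V = (x ≫ inv f0) ≫ u ≫ V := by simp [u]
    have hfun : Red.gaFn x = (x ≫ inv f0).left.appTop (eP.inv Polynomial.X) := by
      have := hf0X T (x ≫ inv f0)
      rw [Category.assoc, IsIso.inv_hom_id, Category.comp_id] at this
      exact this
    rw [hx, GaPts.gaFn_comp, h1, BddFin29.eq_of_comp_appTop_left, ← hfun]
  -- additivity
  have hadd : (g.map Polynomial.C).comp (Polynomial.C Polynomial.X + Polynomial.X) =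
      Polynomial.C g + g.map Polynomial.C := by
    let T := sp K K[X][X]
    let i := (Scheme.ΓSpecIso (CommRingCat.of K[X][X])).inv
    let px : T ⟶ Red.Ga base := GaPts.ptOfFn (i (Polynomial.C Polynomial.X))
    let py : T ⟶ Red.Ga base := GaPts.ptOfFn (i Polynomial.X)
    let θ : K[X][X] →ₐ[K] K[X][X] := (Polynomial.aeval (R := K[X]) (g.map Polynomial.C)).restrictScalars K
    let s : T ⟶ T := spMap θ
    have hse : ∀ (p : K[X][X]) (q : T ⟶ Red.Ga base), Red.gaFn q = i p → Red.gaFn (s ≫ q) = i (θ p) :=
      fun p q hq => gaFn_spMap_comp θ q p hq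
    let m : T ⟶ Red.Ga base := ((px ≫ f) * (py ≫ inv V)) ≫ V
    obtain ⟨Φ, hΦ⟩ := (ConcreteCategory.bijective_of_isIso i).2 (Red.gaFn m)
    refine additive_of_translation hgd hg0 Φ ?_
    have e1 : s ≫ px = px := GaPts.gaFn_injective (by
      show Red.gaFn _ = Red.gaFn _
      rw [hse _ px (GaPts.gaFn_ptOfFn _), GaPts.gaFn_ptOfFn]
      simp [θ])
    have hev : ∀ p : K[X][X], g.eval₂ (str T).hom (i p) = i ((g.map Polynomial.C).comp p) := by
      intro p
      rw [BddFin29.str_sp, CommRingCat.hom_comp, ← Polynomial.hom_eval₂]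
      refine congrArg i.hom ?_
      rw [Polynomial.comp, eval₂_map]
      rfl
    have e2 : s ≫ py ≫ inv V = py ≫ f := by
      rw [← Category.assoc, IsIso.comp_inv_eq, Category.assoc]
      refine GaPts.gaFn_injective ?_
      show Red.gaFn _ = Red.gaFn _
      rw [hse _ py (GaPts.gaFn_ptOfFn _), hfV, GaPts.gaFn_ptOfFn, hev]
      simp [θ]
    have e3 : s ≫ m = (px * py) ≫ f ≫ V := by
      simp only [m]
      rw [← Category.assoc, MonObj.comp_mul, ← Category.assoc s px, e1, e2, ← MonObj.mul_comp px py f, Category.assoc]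
    have e4 := congrArg Red.gaFn e3
    rw [hse _ m hΦ.symm, hfV, GaPts.gaFn_mul, GaPts.gaFn_ptOfFn, GaPts.gaFn_ptOfFn, ← map_add i.hom, hev] at e4
    exact ((ConcreteCategory.bijective_of_isIso i).1 e4).symm
  refine ⟨V, hV, ?_⟩
  -- `V` is a homomorphism
  haveI : IsMonHom (f ≫ V) := by
    refine { one_hom := ?_, mul_hom := ?_ }
    · refine GaPts.gaFn_injective ?_
      show Red.gaFn _ = Red.gaFn _
      rw [hfV, show η[Red.Ga base] = (1 : 𝟙_ (Over base) ⟶ Red.Ga base) from
        (by rw [Hom.one_def, toUnit_unit]; exact (Category.id_comp _).symm), GaPts.gaFn_one, eval₂_at_zero, hg0, map_zero]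
    · refine GaPts.gaFn_injective ?_
      show Red.gaFn _ = Red.gaFn _
      rw [hfV, show μ[Red.Ga base] = fst (Red.Ga base) (Red.Ga base) * snd (Red.Ga base) (Red.Ga base) from
        (by rw [Hom.mul_def, lift_fst_snd, Category.id_comp]), GaPts.gaFn_mul, eval₂_add_of_additive hadd,
        MonObj.comp_mul, tensorHom_fst, tensorHom_snd, GaPts.gaFn_mul, hfV, hfV]
  refine { one_hom := ?_, mul_hom := ?_ }
  · rw [← IsMonHom.one_hom f, Category.assoc]
    exact IsMonHom.one_hom (f ≫ V)
  · haveI : Surjective (f ⊗ₘ f).left := MorphismProperty.pullback_map (P := @Surjective) inferInstance inferInstance (Over.w f).symm (Over.w f).symm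
    haveI : IsDominant (f ⊗ₘ f).left := inferInstance
    haveI : Smooth (pullback.fst H.hom H.hom) := inferInstance
    haveI : Smooth (H ⊗ H).hom := inferInstanceAs (Smooth (pullback.fst H.hom H.hom ≫ H.hom))
    haveI : IsReduced (H ⊗ H).left := OrbitTop19.isReduced_of_smooth (H ⊗ H).hom
    have key : (f ⊗ₘ f) ≫ μ[H] ≫ V = (f ⊗ₘ f) ≫ (V ⊗ₘ V) ≫ μ[Red.Ga base] := by
      rw [← Category.assoc, ← IsMonHom.mul_hom f, Category.assoc, IsMonHom.mul_hom (f ≫ V), ← Category.assoc,
        tensorHom_comp_tensorHom]
    haveI : IsSeparated (Red.Ga base).hom := by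
      rw [← Over.w (inv f0)]
      haveI : IsIso (inv f0).left := inferInstanceAs (IsIso ((Over.forget _).map (inv f0)))
      infer_instance
    refine Over.OverMorphism.ext ?_
    refine ext_of_isDominant_of_isSeparated (Red.Ga base).hom ((Over.w _).trans (Over.w _).symm) (f ⊗ₘ f).left ?_
    exact congrArg (·.left) key

end Groth.Agent.GaQuot6
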